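import Cfsg.Agent.H306.J2.RealC
import Cfsg.Agent.KFacts.J2.Facts
import Cfsg.Agent.J2Type.ThreeF
import Cfsg.Agent.J2Type.FiveFus
import Cfsg.Agent.H102.AAJtwo
import Cfsg.Agent.H976.Cop.Bridge

/-!
# `J₂` is ambivalent (task 1976, helper306)

`amb`: every element of `J₂` is conjugate to its inverse. `row_j2`: the row `J₂` of S4175.
-/

set_option autoImplicit false

namespace Cfsg.Agent.H306.J2

open Subgroup Cfsg.Agent.J2Type.Base Cfsg.Agent.J2Type.Model Cfsg.Agent.J2Type.CentU Cfsg.Agent.J2Type.CentQuot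

variable {G : Type*} [Group G] {z u : G}

theorem amb_A5 : ∀ g : alternatingGroup (Fin 5), ∃ x : alternatingGroup (Fin 5), x * g * x⁻¹ = g⁻¹ := by
  decide +kernel

theorem conj3_A5 : ∀ g k : alternatingGroup (Fin 5), g ^ 3 = 1 → g ≠ 1 → k ^ 3 = 1 → k ≠ 1 →
    ∃ x : alternatingGroup (Fin 5), x * g * x⁻¹ = k := by
  decide +kernel

theorem isConj_pow {a b : G} (h : IsConj a b) (n : ℕ) : IsConj (a ^ n) (b ^ n) := by
  obtain ⟨g, hg⟩ := isConj_iff.1 h
  exact isConj_iff.2 ⟨g, by rw [← hg, conj_pow]⟩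

theorem real_pow {x : G} (h : IsConj x x⁻¹) (n : ℕ) : IsConj (x ^ n) (x ^ n)⁻¹ := by
  have := isConj_pow h n
  rwa [inv_pow] at this

/-- elements of `C(u)` -/
theorem real_u [Finite G] (h : Fus z u) {x : G} (hx : x * u = u * x) : IsConj x x⁻¹ := by
  obtain ⟨f, U, V, H0, F⟩ := Cfsg.Agent.J2Type.CentU.main h
  have h60 := Cfsg.Agent.J2Type.ThreeA.card_H0 h F
  obtain ⟨a, ha, b, hb, rfl⟩ := Cfsg.Agent.J2Type.Cent5.exists_mul F (mem_centralizer_singleton_iff.2 hx)
  obtain ⟨e⟩ := Cfsg.Agent.J2Type.Cent5.exists_equiv h F h60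
  obtain ⟨k, hk⟩ := amb_A5 (e ⟨b, hb⟩)
  have hk' : (e.symm k : G) * b * (e.symm k : G)⁻¹ = b⁻¹ := by
    have h1 : e.symm k * ⟨b, hb⟩ * (e.symm k)⁻¹ = (⟨b, hb⟩ : H0)⁻¹ := by
      apply e.injective
      rw [map_mul, map_mul, map_inv, map_inv, e.apply_symm_apply, hk]
    exact congrArg Subtype.val h1
  have hak : a * (e.symm k : G) = (e.symm k : G) * a := Cfsg.Agent.J2Type.Cent5.V_comm h F h60 ha (e.symm k).2
  have hab : a * b⁻¹ = b⁻¹ * a := Cfsg.Agent.J2Type.Cent5.V_comm h F h60 ha (H0.inv_mem hb)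
  have hai := Cfsg.Agent.J2Type.Cent5.inv_V h F ha
  refine isConj_iff.2 ⟨(e.symm k : G), ?_⟩
  calc (e.symm k : G) * (a * b) * (e.symm k : G)⁻¹ = ((e.symm k : G) * a) * b * (e.symm k : G)⁻¹ := by group
    _ = a * ((e.symm k : G) * b * (e.symm k : G)⁻¹) := by rw [← hak]; group
    _ = b⁻¹ * a := by rw [hk', hab]
    _ = (a * b)⁻¹ := by rw [mul_inv_rev, hai]

/-- elements with `z` among their powers -/
theorem real_z {Q : Subgroup (centralizer ({z} : Set G))} {v : Fin 5 → centralizer ({z} : Set G)}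
    {ρ : centralizer ({z} : Set G) →* SP} (D : Cfsg.Agent.KFacts.J2.Basic.Dat z u Q v ρ) {x : G}
    (hx : z ∈ zpowers x) : IsConj x x⁻¹ := by
  have hxz : x * z = z * x := by
    obtain ⟨k, rfl⟩ := mem_zpowers_iff.1 hx
    exact ((Commute.refl x).zpow_right k).eq
  have hxm : x ∈ centralizer ({z} : Set G) := mem_centralizer_singleton_iff.2 hxz
  have h1 : (Cfsg.Agent.J3Type.OneClass.zc z) ∈ zpowers (⟨x, hxm⟩ : centralizer ({z} : Set G)) := by
    obtain ⟨k, hk⟩ := mem_zpowers_iff.1 hx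
    exact mem_zpowers_iff.2 ⟨k, Subtype.ext hk⟩
  obtain ⟨g, hg⟩ := isConj_iff.1 (real_C D.M _ h1)
  exact isConj_iff.2 ⟨g, congrArg Subtype.val hg⟩

theorem mem_zpowers_conj {x y : G} (g : G) (h : y ∈ zpowers x) : g * y * g⁻¹ ∈ zpowers (g * x * g⁻¹) := by
  obtain ⟨k, rfl⟩ := mem_zpowers_iff.1 h
  exact mem_zpowers_iff.2 ⟨k, conj_zpow⟩

/-- elements of even order -/
theorem real_even [Finite G] {Q : Subgroup (centralizer ({z} : Set G))} {v : Fin 5 → centralizer ({z} : Set G)}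
    {ρ : centralizer ({z} : Set G) →* SP} (D : Cfsg.Agent.KFacts.J2.Basic.Dat z u Q v ρ) {x : G}
    (hx : 2 ∣ orderOf x) : IsConj x x⁻¹ := by
  have hi : orderOf (x ^ (orderOf x / 2)) = 2 := orderOf_pow_orderOf_div (orderOf_pos x).ne' hx
  have hmem : x ^ (orderOf x / 2) ∈ zpowers x := pow_mem (mem_zpowers x) _
  set i := x ^ (orderOf x / 2) with hidef
  rcases D.F.cover i hi with h1 | h1
  · obtain ⟨g, hg⟩ := isConj_iff.1 h1
    apply isConj_inv_of_conj (g := g⁻¹)
    apply real_z D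
    have h2 := mem_zpowers_conj g⁻¹ hmem
    rwa [show g⁻¹ * i * g⁻¹⁻¹ = z by rw [← hg]; group] at h2
  · obtain ⟨g, hg⟩ := isConj_iff.1 h1
    apply isConj_inv_of_conj (g := g⁻¹)
    apply real_u D.F
    have h2 := mem_zpowers_conj g⁻¹ hmem
    rw [show g⁻¹ * i * g⁻¹⁻¹ = u by rw [← hg]; group] at h2
    obtain ⟨k, hk⟩ := mem_zpowers_iff.1 h2
    rw [← hk]
    exact ((Commute.refl _).zpow_right k).eq

/-- an element of odd order commuting with an involution -/
theorem real_of_comm [Finite G] {Q : Subgroup (centralizer ({z} : Set G))} {v : Fin 5 → centralizer ({z} : Set G)}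
    {ρ : centralizer ({z} : Set G) →* SP} (D : Cfsg.Agent.KFacts.J2.Basic.Dat z u Q v ρ) {x : G}
    (hx : Odd (orderOf x)) (h2 : 2 ∣ Nat.card (centralizer ({x} : Set G))) : IsConj x x⁻¹ := by
  have : Fact (Nat.Prime 2) := ⟨Nat.prime_two⟩
  obtain ⟨⟨i, hi⟩, hi2⟩ := exists_prime_orderOf_dvd_card' (G := centralizer ({x} : Set G)) 2 h2
  rw [Subgroup.orderOf_mk] at hi2
  have hix : Commute i x := mem_centralizer_singleton_iff.1 hi
  have hcop : Nat.Coprime (orderOf i) (orderOf x) := by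
    rw [hi2]
    exact (Nat.coprime_two_left).2 hx
  have ho : orderOf (i * x) = 2 * orderOf x := by
    rw [hix.orderOf_mul_eq_mul_orderOf_of_coprime hcop, hi2]
  have h3 : IsConj (i * x) (i * x)⁻¹ := real_even D (by rw [ho]; exact dvd_mul_right _ _)
  have h4 : (i * x) ^ (orderOf x + 1) = x := by
    rw [hix.mul_pow, pow_succ x, pow_orderOf_eq_one, one_mul]
    obtain ⟨m, hm⟩ := hx
    have : i ^ (orderOf x + 1) = 1 := by
      apply orderOf_dvd_iff_pow_eq_one.1
      rw [hi2, hm]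
      omega
    rw [this, one_mul]
  have h5 := real_pow h3 (orderOf x + 1)
  rwa [h4] at h5

/-- elements of order 3 of `C(w)`, `w` of order 5 in `H0` -/
theorem conj_three_of_equiv {w : G} (hw : orderOf w = 5) (e : CQ w ≃* alternatingGroup (Fin 5)) {a b : G}
    (ha : orderOf a = 3) (hb : orderOf b = 3) (haw : a * w = w * a) (hbw : b * w = w * b) :
    ∃ k : G, k * w = w * k ∧ k * a * k⁻¹ = b := by
  have ham : a ∈ centralizer ({w} : Set G) := mem_centralizer_singleton_iff.2 haw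
  have hbm : b ∈ centralizer ({w} : Set G) := mem_centralizer_singleton_iff.2 hbw
  have key : ∀ (c : G) (hc : c ∈ centralizer ({w} : Set G)), orderOf c = 3 →
      (e ((⟨c, hc⟩ : centralizer ({w} : Set G)) : CQ w)) ^ 3 = 1 ∧
        e ((⟨c, hc⟩ : centralizer ({w} : Set G)) : CQ w) ≠ 1 := by
    intro c hc h3
    constructor
    · rw [← map_pow]
      have h1 : ((⟨c, hc⟩ : centralizer ({w} : Set G)) : CQ w) ^ 3 = 1 := by
        have h2 : (⟨c, hc⟩ : centralizer ({w} : Set G)) ^ 3 = 1 := by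
          apply Subtype.ext
          show c ^ 3 = 1
          rw [← h3, pow_orderOf_eq_one]
        rw [← QuotientGroup.mk_pow, h2]
        rfl
      rw [h1, map_one]
    · intro h1
      rw [map_eq_one_iff e e.injective] at h1
      have h2 : c ∈ zpowers w := (Cfsg.Agent.J2Type.CentQuot.mk_eq_one (⟨c, hc⟩ : centralizer ({w} : Set G))).1 h1
      have h4 : orderOf c ∣ 5 := by
        rw [← hw, ← Nat.card_zpowers w]
        have := orderOf_dvd_natCard (⟨c, h2⟩ : zpowers w)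
        rwa [Subgroup.orderOf_mk] at this
      rw [h3] at h4
      norm_num at h4
  obtain ⟨h1, h2⟩ := key a ham ha
  obtain ⟨h3, h4⟩ := key b hbm hb
  obtain ⟨x, hx⟩ := conj3_A5 _ _ h1 h2 h3 h4
  obtain ⟨k, hk⟩ := QuotientGroup.mk_surjective (e.symm x)
  have h5 : ((k * ⟨a, ham⟩ * k⁻¹ * (⟨b, hbm⟩ : centralizer ({w} : Set G))⁻¹ : centralizer ({w} : Set G)) : CQ w) = 1 := by
    have h6 : ((k * ⟨a, ham⟩ * k⁻¹ : centralizer ({w} : Set G)) : CQ w) =
        ((⟨b, hbm⟩ : centralizer ({w} : Set G)) : CQ w) := by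
      apply e.injective
      rw [QuotientGroup.mk_mul, QuotientGroup.mk_mul, QuotientGroup.mk_inv, map_mul, map_mul, map_inv, hk,
        e.apply_symm_apply, hx]
    rw [QuotientGroup.mk_mul, h6, QuotientGroup.mk_inv, mul_inv_cancel]
  have h6 : (k : G) * a * (k : G)⁻¹ * b⁻¹ ∈ zpowers w := (Cfsg.Agent.J2Type.CentQuot.mk_eq_one _).1 h5
  have hkw : (k : G) * w = w * k := mem_centralizer_singleton_iff.1 k.2
  refine ⟨k, hkw, ?_⟩
  obtain ⟨m, hm⟩ := mem_zpowers_iff.1 h6
  have h7 : (k : G) * a * (k : G)⁻¹ = w ^ m * b := by rw [hm]; group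
  have hcb : Commute (w ^ m) b := (show Commute w b from hbw.symm).zpow_left m
  have ha3 : a ^ 3 = 1 := by rw [← ha, pow_orderOf_eq_one]
  have hb3 : b ^ 3 = 1 := by rw [← hb, pow_orderOf_eq_one]
  have h8 : (w ^ m) ^ 3 = 1 := by
    have h9 : ((k : G) * a * (k : G)⁻¹) ^ 3 = 1 := by rw [conj_pow, ha3, mul_one, mul_inv_cancel]
    rw [h7, hcb.mul_pow, hb3, mul_one] at h9
    exact h9
  have h9 : (w ^ m) ^ 5 = 1 := by
    rw [← zpow_natCast (w ^ m), ← zpow_mul, mul_comm, zpow_mul, zpow_natCast, ← hw, pow_orderOf_eq_one, one_zpow]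
  have h10 : w ^ m = 1 := by
    have h11 : (w ^ m) ^ (Nat.gcd 3 5) = 1 := pow_gcd_eq_one.2 ⟨h8, h9⟩
    simpa using h11
  rw [h7, h10, one_mul]

/-- elements of order 15 -/
theorem real_fifteen [Finite G] (h : Fus z u) {x : G} (hx : orderOf x = 15) : IsConj x x⁻¹ := by
  have hG := Cfsg.Agent.J2Type.Order.card_of_fus h
  have : Fact (Nat.Prime 2) := ⟨Nat.prime_two⟩
  -- the two parts
  set b := x ^ 6 with hb
  set a := x ^ 10 with ha
  have hx15 : x ^ 15 = 1 := by rw [← hx, pow_orderOf_eq_one]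
  have hb5 : orderOf b = 5 := by
    rw [hb, orderOf_pow, hx]; decide
  have ha3 : orderOf a = 3 := by
    rw [ha, orderOf_pow, hx]; decide
  have hab : a * b = b * a := by rw [ha, hb, ← pow_add, ← pow_add]
  have hxab : x = a * b := by
    rw [ha, hb, ← pow_add]
    calc x = x ^ 15 * x := by rw [hx15, one_mul]
      _ = x ^ (10 + 6) := by rw [← pow_succ]
  have h2 := Cfsg.Agent.H102.AAJtwo.even_five h hb5
  obtain ⟨⟨i, hi⟩, hi2⟩ := exists_prime_orderOf_dvd_card' (G := centralizer ({b} : Set G)) 2 h2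
  rw [Subgroup.orderOf_mk] at hi2
  have hib : i * b = b * i := mem_centralizer_singleton_iff.1 hi
  rcases h.cover i hi2 with h3 | h3
  · -- impossible
    exfalso
    obtain ⟨g, hg⟩ := isConj_iff.1 h3
    have hz : g⁻¹ * i * g = z := by rw [← hg]; group
    have h5 : orderOf (g⁻¹ * b * g) = 5 := by
      rw [← hb5]
      have := orderOf_injective (MulAut.conj g⁻¹).toMonoidHom (MulAut.conj g⁻¹).injective b
      rw [← this]
      simp
    have h6 : (g⁻¹ * b * g) * z = z * (g⁻¹ * b * g) := by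
      rw [← hz]
      calc (g⁻¹ * b * g) * (g⁻¹ * i * g) = g⁻¹ * (b * i) * g := by group
        _ = g⁻¹ * (i * b) * g := by rw [hib]
        _ = _ := by group
    apply Cfsg.Agent.J2Type.ThreeD.not_three_dvd h h5 h6
    have h7 : orderOf (⟨g⁻¹ * a * g, mem_centralizer_singleton_iff.2 (by
        calc (g⁻¹ * a * g) * (g⁻¹ * b * g) = g⁻¹ * (a * b) * g := by group
          _ = g⁻¹ * (b * a) * g := by rw [hab]
          _ = _ := by group)⟩ : centralizer ({g⁻¹ * b * g} : Set G)) = 3 := by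
      rw [Subgroup.orderOf_mk, ← ha3]
      have := orderOf_injective (MulAut.conj g⁻¹).toMonoidHom (MulAut.conj g⁻¹).injective a
      rw [← this]
      simp
    rw [← h7]
    exact orderOf_dvd_natCard _
  · obtain ⟨g, hg⟩ := isConj_iff.1 h3
    have hu : g⁻¹ * i * g = u := by rw [← hg]; group
    obtain ⟨f, U, V, H0, F⟩ := Cfsg.Agent.J2Type.CentU.main h
    have h60 := Cfsg.Agent.J2Type.ThreeA.card_H0 h F
    apply isConj_inv_of_conj (g := g⁻¹)
    rw [inv_inv]
    set b' := g⁻¹ * b * g with hb'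
    set a' := g⁻¹ * a * g with ha'
    have h5 : orderOf b' = 5 := by
      rw [← hb5]
      have := orderOf_injective (MulAut.conj g⁻¹).toMonoidHom (MulAut.conj g⁻¹).injective b
      rw [← this, hb']
      simp
    have h5a : orderOf a' = 3 := by
      rw [← ha3]
      have := orderOf_injective (MulAut.conj g⁻¹).toMonoidHom (MulAut.conj g⁻¹).injective a
      rw [← this, ha']
      simp
    have hab' : a' * b' = b' * a' := by
      calc (g⁻¹ * a * g) * (g⁻¹ * b * g) = g⁻¹ * (a * b) * g := by group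
        _ = g⁻¹ * (b * a) * g := by rw [hab]
        _ = _ := by rw [ha', hb']; group
    have hx' : g⁻¹ * x * g = a' * b' := by rw [hxab, ha', hb']; group
    have h6 : b' * u = u * b' := by
      rw [← hu, hb']
      calc (g⁻¹ * b * g) * (g⁻¹ * i * g) = g⁻¹ * (b * i) * g := by group
        _ = g⁻¹ * (i * b) * g := by rw [hib]
        _ = _ := by group
    -- `b' ∈ H0`
    have hbH : b' ∈ H0 := by
      obtain ⟨c, hc, d, hd, hcd⟩ := Cfsg.Agent.J2Type.Cent5.exists_mul F (mem_centralizer_singleton_iff.2 h6)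
      have hcc := Cfsg.Agent.J2Type.Cent5.sq_V h F hc
      have hcd' : Commute c d := Cfsg.Agent.J2Type.Cent5.V_comm h F h60 hc hd
      have h7 : b' ^ 6 = d ^ 6 := by
        rw [hcd, hcd'.mul_pow, show 6 = 2 * 3 from rfl, pow_mul c, pow_two c, hcc, one_pow, one_mul]
      have h8 : b' ^ 6 = b' := by
        rw [pow_succ, ← h5, pow_orderOf_eq_one, one_mul]
      rw [← h8, h7]
      exact H0.pow_mem hd 6
    obtain ⟨e⟩ := Cfsg.Agent.J2Type.Cent5.exists_equiv_CQ h F h60 hG hbH h5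
    have hreal := (Cfsg.Agent.J2Type.Cent5.good_of_mem h F h60 hbH h5).2.1
    obtain ⟨m, hm⟩ := isConj_iff.1 hreal
    have h7 : (m * a' * m⁻¹) * b' = b' * (m * a' * m⁻¹) := by
      have h8 : b' = m * b'⁻¹ * m⁻¹ := by
        have : m * b'⁻¹ * m⁻¹ = (m * b' * m⁻¹)⁻¹ := by group
        rw [this, hm, inv_inv]
      have h9 : a' * b'⁻¹ = b'⁻¹ * a' := (show Commute a' b' from hab').inv_right.eq
      calc (m * a' * m⁻¹) * b' = (m * a' * m⁻¹) * (m * b'⁻¹ * m⁻¹) := by rw [← h8]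
        _ = m * (a' * b'⁻¹) * m⁻¹ := by group
        _ = m * (b'⁻¹ * a') * m⁻¹ := by rw [h9]
        _ = (m * b'⁻¹ * m⁻¹) * (m * a' * m⁻¹) := by group
        _ = b' * (m * a' * m⁻¹) := by rw [← h8]
    have h8 : orderOf (m * a' * m⁻¹) = 3 := by
      rw [← h5a]
      exact orderOf_injective (MulAut.conj m).toMonoidHom (MulAut.conj m).injective a'
    obtain ⟨k, hk1, hk2⟩ := conj_three_of_equiv h5 e h8 (by rw [orderOf_inv]; exact h5a) h7
      (show Commute a' b' from hab').inv_left.eq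
    have h9 : k * b'⁻¹ * k⁻¹ = b'⁻¹ := by
      have : Commute k b'⁻¹ := (show Commute k b' from hk1).inv_right
      rw [this.eq, mul_inv_cancel_right]
    rw [hx']
    refine isConj_iff.2 ⟨k * m, ?_⟩
    calc k * m * (a' * b') * (k * m)⁻¹ = (k * (m * a' * m⁻¹) * k⁻¹) * (k * (m * b' * m⁻¹) * k⁻¹) := by group
      _ = a'⁻¹ * b'⁻¹ := by rw [hk2, hm, h9]
      _ = (a' * b')⁻¹ := by rw [← mul_inv_rev, hab']

/-- elements of order divisible by 7 -/
theorem real_seven [Finite G] (h : Fus z u) {x : G} (hx : 7 ∣ orderOf x) : IsConj x x⁻¹ := by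
  have hG := Cfsg.Agent.J2Type.Order.card_of_fus h
  have : Fact (Nat.Prime 7) := ⟨by norm_num⟩
  have : Fact (Nat.Prime 2) := ⟨Nat.prime_two⟩
  have hy : orderOf (x ^ (orderOf x / 7)) = 7 := orderOf_pow_orderOf_div (orderOf_pos x).ne' hx
  set y := x ^ (orderOf x / 7) with hydef
  have h7 : ∀ P : Sylow 7 G, Nat.card (P : Subgroup G) = 7 := by
    intro P
    have := Cfsg.Agent.J2Type.SylowSeven.card_sylow P 1 86400 (by rw [hG]; norm_num) (by norm_num)
    simpa using this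
  have h8 : IsPGroup 7 (zpowers y) := IsPGroup.of_card (n := 1) (by rw [Nat.card_zpowers, hy, pow_one])
  obtain ⟨P, hPy⟩ := h8.exists_le_sylow
  have h9 : (P : Subgroup G) = zpowers y :=
    (eq_of_le_of_card_ge hPy (by rw [Nat.card_zpowers, hy]; exact (h7 P).le)).symm
  obtain ⟨hC, hN, -⟩ := Cfsg.Agent.J2Type.ThreeF.sylow_seven h P
  -- `x ∈ C(y) = ⟨y⟩`
  have hxP : x ∈ (P : Subgroup G) := by
    rw [← hC, mem_centralizer_iff]
    intro w hw
    have hw' : w ∈ zpowers y := by rw [← h9]; exact hw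
    obtain ⟨k, rfl⟩ := mem_zpowers_iff.1 hw'
    have : Commute x y := (Commute.refl x).pow_right _
    exact (this.zpow_right k).eq.symm
  -- an involution of the normaliser
  obtain ⟨⟨t, ht⟩, ht2⟩ := exists_prime_orderOf_dvd_card' (G := normalizer ((P : Subgroup G) : Set G)) 2
    (by rw [hN]; norm_num)
  rw [Subgroup.orderOf_mk] at ht2
  have htt : t * t = 1 := by rw [← pow_two, ← ht2, pow_orderOf_eq_one]
  have hti : t⁻¹ = t := inv_eq_of_mul_eq_one_left htt
  have h10 : t * y * t⁻¹ ∈ (P : Subgroup G) := (mem_normalizer_iff.1 ht y).1 (hPy (mem_zpowers y))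
  have hyinv : t * y * t⁻¹ = y⁻¹ := by
    rw [h9] at h10
    obtain ⟨k, hk⟩ := mem_zpowers_iff.1 h10
    have h11 : y ^ (k * k) = y := by
      rw [zpow_mul, hk, conj_zpow, hk, hti]
      calc t * (t * y * t) * t = (t * t) * y * (t * t) := by group
        _ = y := by rw [htt]; group
    have h12 : (7 : ℤ) ∣ k * k - 1 := by
      have : y ^ (k * k - 1) = 1 := by rw [zpow_sub, h11, zpow_one, mul_inv_cancel]
      have h13 := orderOf_dvd_iff_zpow_eq_one.2 this
      rwa [hy] at h13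
    have h13 : (7 : ℤ) ∣ (k - 1) * (k + 1) := by
      have : (k - 1) * (k + 1) = k * k - 1 := by ring
      rwa [this]
    have hp7 : Prime (7 : ℤ) := by norm_num
    rcases hp7.dvd_or_dvd h13 with h14 | h14
    · -- `t` centralises `y`
      exfalso
      have h15 : y ^ (k - 1) = 1 := orderOf_dvd_iff_zpow_eq_one.1 (by rw [hy]; exact_mod_cast h14)
      have h16 : y ^ k = y := by
        rw [show k = (k - 1) + 1 by ring, zpow_add, h15, one_mul, zpow_one]
      rw [h16] at hk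
      have h17 : Commute t y := by
        have := mul_inv_eq_iff_eq_mul.1 hk.symm
        exact this
      have h18 : t ∈ (P : Subgroup G) := by
        rw [← hC, mem_centralizer_iff]
        intro w hw
        have hw' : w ∈ zpowers y := by rw [← h9]; exact hw
        obtain ⟨k, rfl⟩ := mem_zpowers_iff.1 hw'
        exact (h17.zpow_right k).eq.symm
      have h19 : orderOf t ∣ 7 := by
        rw [← h7 P]
        have := orderOf_dvd_natCard (⟨t, h18⟩ : (P : Subgroup G))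
        rwa [Subgroup.orderOf_mk] at this
      rw [ht2] at h19
      norm_num at h19
    · have h15 : y ^ (k + 1) = 1 := orderOf_dvd_iff_zpow_eq_one.1 (by rw [hy]; exact_mod_cast h14)
      rw [← hk]
      rw [zpow_add, zpow_one] at h15
      exact eq_inv_of_mul_eq_one_left h15
  rw [h9] at hxP
  obtain ⟨k, hk⟩ := mem_zpowers_iff.1 hxP
  refine isConj_iff.2 ⟨t, ?_⟩
  rw [← hk, ← conj_zpow, hyinv, inv_zpow]

/-- the Sylow 3-subgroups have exponent 3 -/
theorem exp_three [Finite G] (h : Fus z u) {c : G} {n : ℕ} (hc : orderOf c = 3 ^ n) : c ^ 3 = 1 := by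
  have : Fact (Nat.Prime 3) := ⟨by norm_num⟩
  obtain ⟨f, U, V, H0, F⟩ := Cfsg.Agent.J2Type.CentU.main h
  obtain ⟨d, hd, hdV, hdH⟩ := Cfsg.Agent.J2Type.ThreeA.exists_d h F
  obtain ⟨P, hPd, hfP, hdP⟩ := Cfsg.Agent.J2Type.ThreeF.exists_sylow h F hd hdH
  obtain ⟨h216, hcl⟩ := Cfsg.Agent.J2Type.ThreeF.card_normalizer h F hd hdV hdH hPd hfP hdP
  obtain ⟨g, hg⟩ := Cfsg.Agent.J2Type.SylowFive.exists_conj_mem_sylow P (y := c) (n := n) hc
  have key : (g * c * g⁻¹) ^ 3 = 1 := by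
    by_cases h1 : g * c * g⁻¹ ∈ zpowers d
    · obtain ⟨k, hk⟩ := mem_zpowers_iff.1 h1
      rw [← hk, ← zpow_natCast, ← zpow_mul, mul_comm, zpow_mul, zpow_natCast, ← hd, pow_orderOf_eq_one, one_zpow]
    · obtain ⟨m, hm⟩ := isConj_iff.1 (hcl _ hg h1)
      rw [← hm, conj_pow, ← F.f_ord, pow_orderOf_eq_one, mul_one, mul_inv_cancel]
  rw [conj_pow] at key
  have : c ^ 3 = g⁻¹ * (g * c ^ 3 * g⁻¹) * g := by group
  rw [this, key, mul_one, inv_mul_cancel]

/-- no element of order 25 -/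
theorem not_25 [Finite G] (h : Fus z u) {x : G} (hx : orderOf x = 25) : False := by
  have : Fact (Nat.Prime 5) := ⟨by norm_num⟩
  have h8 : IsPGroup 5 (zpowers x) := IsPGroup.of_card (n := 2) (by rw [Nat.card_zpowers, hx]; norm_num)
  obtain ⟨P, hPx⟩ := h8.exists_le_sylow
  obtain ⟨-, h25, -, X, Y, hX, hY, hXY, -⟩ := Cfsg.Agent.J2Type.FiveFus.sylow_five h P
  have h9 : (P : Subgroup G) = zpowers x :=
    (eq_of_le_of_card_ge hPx (by rw [Nat.card_zpowers, hx]; exact h25.le)).symm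
  -- the unique subgroup of order 5
  have hZ : Nat.card (zpowers (x ^ 5)) = 5 := by
    rw [Nat.card_zpowers, orderOf_pow, hx]
    decide
  have huniq : ∀ W : Subgroup G, Nat.card W = 5 → W ≤ (P : Subgroup G) → W = zpowers (x ^ 5) := by
    intro W hW hWP
    refine eq_of_le_of_card_ge ?_ (by rw [hW, hZ])
    intro w hw
    have h10 := hWP hw
    rw [h9] at h10
    obtain ⟨k, rfl⟩ := mem_zpowers_iff.1 h10
    have h11 : (x ^ k) ^ 5 = 1 := by
      have := pow_card_eq_one' (x := (⟨x ^ k, hw⟩ : W))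
      rw [hW] at this
      exact congrArg Subtype.val this
    rw [← zpow_natCast, ← zpow_mul] at h11
    have h12 := orderOf_dvd_iff_zpow_eq_one.2 h11
    rw [hx] at h12
    have h13 : (5 : ℤ) ∣ k := by
      obtain ⟨m, hm⟩ := h12
      push_cast at hm
      exact ⟨m, by omega⟩
    obtain ⟨m, rfl⟩ := h13
    refine mem_zpowers_iff.2 ⟨m, ?_⟩
    rw [zpow_mul]
    norm_cast
  have hex : ∀ W : Subgroup G, Nat.card W = 5 → ∃ g : G, W.map (MulAut.conj g).toMonoidHom = zpowers (x ^ 5) := by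
    intro W hW
    have h10 : IsPGroup 5 W := IsPGroup.of_card (n := 1) (by rw [hW, pow_one])
    obtain ⟨R, hR⟩ := h10.exists_le_sylow
    obtain ⟨g, hg⟩ := MulAction.exists_smul_eq G R P
    refine ⟨g, huniq _ ?_ ?_⟩
    · rw [Subgroup.card_map_of_injective (MulAut.conj g).injective, hW]
    · rw [← hg]
      rintro _ ⟨w, hw, rfl⟩
      exact Subgroup.smul_mem_pointwise_smul _ (MulAut.conj g) _ (hR hw)
  obtain ⟨g, hg⟩ := hex X hX
  obtain ⟨k, hk⟩ := hex Y hY
  apply hXY (k⁻¹ * g)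
  rw [map_mul]
  have h10 : Y = (Y.map (MulAut.conj k).toMonoidHom).map (MulAut.conj k⁻¹).toMonoidHom := by
    rw [Subgroup.map_map]
    have : ((MulAut.conj k⁻¹).toMonoidHom.comp (MulAut.conj k).toMonoidHom : G →* G) = MonoidHom.id G := by
      ext y
      show k⁻¹ * (k * y * k⁻¹) * k⁻¹⁻¹ = y
      group
    rw [this, Subgroup.map_id]
  rw [h10, hk, ← hg, Subgroup.map_map]
  rfl

/-- **Every element is conjugate to its inverse.** -/
theorem real_all [Finite G] {Q : Subgroup (centralizer ({z} : Set G))} {v : Fin 5 → centralizer ({z} : Set G)}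
    {ρ : centralizer ({z} : Set G) →* SP} (D : Cfsg.Agent.KFacts.J2.Basic.Dat z u Q v ρ) (x : G) :
    IsConj x x⁻¹ := by
  by_cases h2 : 2 ∣ orderOf x
  · exact real_even D h2
  have hodd : Odd (orderOf x) := by
    rw [← Nat.not_even_iff_odd, even_iff_two_dvd]; exact h2
  have hG := Cfsg.Agent.J2Type.Order.card_of_fus D.F
  by_cases h7 : 7 ∣ orderOf x
  · exact real_seven D.F h7
  have h9 : ¬ 9 ∣ orderOf x := by
    intro h9
    have h1 := orderOf_pow_orderOf_div (orderOf_pos x).ne' h9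
    have h3 := exp_three D.F (n := 2) (c := x ^ (orderOf x / 9)) (by rw [h1]; norm_num)
    have h4 := orderOf_dvd_of_pow_eq_one h3
    rw [h1] at h4
    norm_num at h4
  have h25 : ¬ 25 ∣ orderOf x := fun h25 => not_25 D.F (orderOf_pow_orderOf_div (orderOf_pos x).ne' h25)
  have hd : orderOf x ∣ 604800 := by rw [← hG]; exact orderOf_dvd_natCard x
  have hd' : orderOf x ∣ 4725 := by
    have : Nat.Coprime (orderOf x) (2 ^ 7) := Nat.Coprime.pow_right 7 ((Nat.coprime_two_right).2 hodd)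
    exact this.dvd_of_dvd_mul_left (by rw [show 2 ^ 7 * 4725 = 604800 by norm_num]; exact hd)
  have hcases : orderOf x = 1 ∨ orderOf x = 3 ∨ orderOf x = 5 ∨ orderOf x = 15 := by
    have key : ∀ n ∈ Nat.divisors 4725, ¬ 7 ∣ n → ¬ 9 ∣ n → ¬ 25 ∣ n → n = 1 ∨ n = 3 ∨ n = 5 ∨ n = 15 := by
      decide +kernel
    exact key _ (Nat.mem_divisors.2 ⟨hd', by norm_num⟩) h7 h9 h25
  rcases hcases with h | h | h | h
  · rw [orderOf_eq_one_iff] at h
    rw [h, inv_one]
  · exact real_of_comm D hodd (Cfsg.Agent.H102.AAJtwo.even_three D.F h)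
  · exact real_of_comm D hodd (Cfsg.Agent.H102.AAJtwo.even_five D.F h)
  · exact real_fifteen D.F h

/-- **`J₂` is ambivalent.** -/
theorem ambivalent {S : Type*} [Group S] [Finite S] (h : Cfsg.Spor.IsoJ2 S) (x : S) : IsConj x x⁻¹ := by
  obtain ⟨t, u, Q, v, ρ, D⟩ := Cfsg.Agent.KFacts.J2.Facts.exists_dat_of h
  exact real_all D x

theorem amb {S : Type*} [Group S] [Finite S] (h : Cfsg.Spor.IsoJ2 S) : Cfsg.Agent.H976.Cop.Amb S := by
  intro x
  obtain ⟨g, hg⟩ := isConj_iff.1 (ambivalent h x)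
  exact ⟨MulAut.conj g, hg⟩

/-- **The row `J₂` of S4175.** -/
theorem row_j2 {S : Type*} [Group S] [Finite S] (h : Cfsg.Spor.IsoJ2 S) : Cfsg.Agent.H505.Cop.CopRow S :=
  (amb h).cop

end Cfsg.Agent.H306.J2

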