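import Cfsg.Agent.J2Type.CStruct
import Cfsg.Agent.KFacts.QMinus

/-!
# `J₂` is ambivalent: the centraliser of a 2-central involution (task 1976, helper306)

`real_C`: in `C = 2^{1+4}_- : A₅` every element with `z` among its powers is conjugate to its inverse.
-/

set_option autoImplicit false

namespace Cfsg.Agent.H306.J2

open Cfsg.Agent.J2Type.Model Cfsg.Agent.J2Type.SPFacts Cfsg.Agent.J2Type.CStruct

/-- the image of `v i` -/
def vi (i : Fin 5) : SP := ⟨1, fun j => if j = i then 0 else 1⟩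

/-- the property checked by `decide`: one of
* `g²` or `g³` is the image of some `v i`;
* `g` is inverted by an element of `C̄`, and `g³ = 1` or `g⁵ = 1` or some lift of `g` is conjugate to its product with `z` -/
def Chk (τ : Equiv.Perm (Fin 5)) (g : SP) : Prop :=
  (∃ i, g * g = vi i) ∨ (∃ i, g * g * g = vi i) ∨
    ((∃ r : Fin 5 → ZMod 2, ∑ i, r i = 0 ∧ (⟨τ, r⟩ : SP) * g * (⟨τ, r⟩ : SP)⁻¹ = g⁻¹) ∧
      (g * g * g = 1 ∨ g * g * g * g * g = 1 ∨ (∃ i, g.σ i = i ∧ g.s i = 1) ∨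
        ∃ i j, i ≠ j ∧ g.σ i = j ∧ g.σ j = i ∧ g.s i = g.s j))

instance instDecidableChkH306 (τ : Equiv.Perm (Fin 5)) (g : SP) : Decidable (Chk τ g) := by
  unfold Chk
  infer_instance

theorem chk0 : ∀ s : Fin 5 → ZMod 2, ∑ i, s i = 0 → Chk 1 ⟨σ0, s⟩ := by
  decide +kernel

theorem chk3 : ∀ s : Fin 5 → ZMod 2, ∑ i, s i = 0 → Chk d3.σ ⟨τ3, s⟩ := by
  decide +kernel

theorem chk5 : ∀ s : Fin 5 → ZMod 2, ∑ i, s i = 0 → Chk d5.σ ⟨τ5, s⟩ := by
  decide +kernel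

theorem chk5' : ∀ s : Fin 5 → ZMod 2, ∑ i, s i = 0 → Chk d5.σ ⟨τ5 * τ5, s⟩ := by
  decide +kernel

theorem reps : ∀ σ : Equiv.Perm (Fin 5), Equiv.Perm.sign σ = 1 → σ = 1 ∨
    ∃ τ : Equiv.Perm (Fin 5), Equiv.Perm.sign τ = 1 ∧
      (τ * σ = σ0 * τ ∨ τ * σ = τ3 * τ ∨ τ * σ = τ5 * τ ∨ τ * σ = τ5 * τ5 * τ) := by
  decide +kernel

theorem isConj_inv_of_conj {C : Type*} [Group C] {x g : C} (h : IsConj (g * x * g⁻¹) (g * x * g⁻¹)⁻¹) :
    IsConj x x⁻¹ := by
  have h1 : IsConj x (g * x * g⁻¹) := isConj_iff.2 ⟨g, rfl⟩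
  have h2 : IsConj (g * x * g⁻¹)⁻¹ x⁻¹ := isConj_iff.2 ⟨g⁻¹, by group⟩
  exact (h1.trans h).trans h2

variable {C : Type*} [Group C] {Q : Subgroup C} {z : C} {v : Fin 5 → C} {ρ : C →* SP}

/-- inverted modulo `z` -/
theorem inv_or (M : IsModel Q z v ρ) {x g : C} (h : ρ g * ρ x * (ρ g)⁻¹ = (ρ x)⁻¹) :
    g * x * g⁻¹ = x⁻¹ ∨ g * x * g⁻¹ = z * x⁻¹ := by
  have h1 : ρ (g * x * g⁻¹ * x) = 1 := by
    rw [map_mul, map_mul, map_mul, map_inv, h, inv_mul_cancel]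
  rcases (M.ker _).1 h1 with h2 | h2
  · left
    exact eq_inv_of_mul_eq_one_left h2
  · right
    exact eq_mul_inv_of_mul_eq h2

/-- an element conjugate to its product with `z` and inverted modulo `z` -/
theorem real_of_zx (M : IsModel Q z v ρ) {x g k : C} (h : ρ g * ρ x * (ρ g)⁻¹ = (ρ x)⁻¹)
    (hk : k * x * k⁻¹ = z * x) : IsConj x x⁻¹ := by
  rcases inv_or M h with h1 | h1
  · exact isConj_iff.2 ⟨g, h1⟩
  · refine isConj_iff.2 ⟨k * g, ?_⟩
    have hzi : z⁻¹ = z := inv_eq_of_mul_eq_one_left M.z_sq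
    calc k * g * x * (k * g)⁻¹ = k * (g * x * g⁻¹) * k⁻¹ := by group
      _ = k * (z * x⁻¹) * k⁻¹ := by rw [h1]
      _ = (k * z) * x⁻¹ * k⁻¹ := by group
      _ = (z * k) * x⁻¹ * k⁻¹ := by rw [M.z_comm]
      _ = z * (k * x * k⁻¹)⁻¹ := by group
      _ = z * (x⁻¹ * z⁻¹) := by rw [hk, mul_inv_rev]
      _ = z * (x⁻¹ * z) := by rw [hzi]
      _ = z * (z * x⁻¹) := by rw [M.z_comm]
      _ = x⁻¹ := by rw [← mul_assoc, M.z_sq, one_mul]

/-- an element of odd order modulo `z`, inverted modulo `z` -/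
theorem real_of_odd (M : IsModel Q z v ρ) {x g : C} (h : ρ g * ρ x * (ρ g)⁻¹ = (ρ x)⁻¹) {n : ℕ} (hn : Odd n)
    (hx : ρ x ^ n = 1) : IsConj x x⁻¹ := by
  rcases inv_or M h with h1 | h1
  · exact isConj_iff.2 ⟨g, h1⟩
  exfalso
  have h2 : ρ (x ^ n) = 1 := by rw [map_pow, hx]
  have h3 : x ^ n * x ^ n = 1 := by
    rcases (M.ker _).1 h2 with h4 | h4
    · rw [h4, one_mul]
    · rw [h4, M.z_sq]
  have h4 : ∀ c, x ^ n * c = c * x ^ n := by
    intro c
    rcases (M.ker _).1 h2 with h4 | h4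
    · rw [h4, one_mul, mul_one]
    · rw [h4, M.z_comm]
  have h5 : (g * x * g⁻¹) ^ n = x ^ n := by rw [conj_pow, ← h4, mul_inv_cancel_right]
  have hc : Commute z x⁻¹ := (M.z_comm x⁻¹).symm
  have hz2 : z ^ 2 = 1 := by rw [pow_two, M.z_sq]
  have hzn : z ^ n = z := by
    obtain ⟨m, rfl⟩ := hn
    rw [pow_add, pow_mul, hz2, one_pow, one_mul, pow_one]
  rw [h1, hc.mul_pow, hzn, inv_pow, inv_eq_of_mul_eq_one_left h3] at h5
  apply M.z_ne
  exact mul_eq_right.1 h5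

/-- `z` is not a power of `x` if `x²` or `x³` is an involution of `Q` different from `z` -/
theorem notMem_zpowers {x w : C} (hz1 : z ≠ 1) (hzz : z * z = 1) (hw1 : w ≠ 1) (hwz : w ≠ z) (hww : w * w = 1)
    (h : x * x = w ∨ x * x * x = w) : z ∉ Subgroup.zpowers x := by
  intro hz
  obtain ⟨k, hk⟩ := Subgroup.mem_zpowers_iff.1 hz
  have hw2 : ∀ m : ℤ, w ^ m = 1 ∨ w ^ m = w := by
    intro m
    have hw2 : w ^ (2 : ℤ) = 1 := by rw [zpow_two, hww]
    rcases Int.even_or_odd m with ⟨n, hn⟩ | ⟨n, hn⟩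
    · left
      rw [hn, ← two_mul, zpow_mul, hw2, one_zpow]
    · right
      rw [hn, zpow_add, zpow_mul, hw2, one_zpow, one_mul, zpow_one]
  have hcon : ∀ m : ℤ, z ≠ w ^ m := by
    intro m hm
    rcases hw2 m with h1 | h1
    · exact hz1 (by rw [hm, h1])
    · exact hwz (by rw [hm, h1])
  rcases h with h | h
  · rcases Int.even_or_odd k with ⟨n, hn⟩ | ⟨n, hn⟩
    · apply hcon n
      rw [← hk, hn, ← two_mul, zpow_mul, zpow_two, h]
    · have h1 : z * z = w ^ k := by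
        rw [← hk, ← h, (Commute.refl x).mul_zpow]
      rw [hzz] at h1
      have h2 : w ^ k = w := by
        have hw2 : w ^ (2 : ℤ) = 1 := by rw [zpow_two, hww]
        rw [hn, zpow_add, zpow_mul, hw2, one_zpow, one_mul, zpow_one]
      exact hw1 (by rw [← h2, ← h1])
  · apply hcon k
    have h1 : z * z * z = w ^ k := by
      rw [← hk, ← h, ((Commute.refl x).mul_left (Commute.refl x)).mul_zpow, (Commute.refl x).mul_zpow]
    rw [hzz, one_mul] at h1
    exact h1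

/-- one of the elements of `Q` conjugates `x` to `z x` -/
theorem exists_zx_fix (M : IsModel Q z v ρ) {x : C} {i : Fin 5} (h1 : (ρ x).σ i = i) (h2 : (ρ x).s i = 1) :
    ∃ k, k * x * k⁻¹ = z * x := by
  have h := M.conj x i
  rw [h1, h2, zp_one] at h
  refine ⟨v i, ?_⟩
  have hzi : z⁻¹ = z := inv_eq_of_mul_eq_one_left M.z_sq
  have h3 : x * v i = z * v i * x := mul_inv_eq_iff_eq_mul.1 h
  have hvi : (v i)⁻¹ = v i := inv_eq_of_mul_eq_one_left (M.v_sq i)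
  calc v i * x * (v i)⁻¹ = v i * (x * v i) := by rw [hvi]; group
    _ = v i * (z * v i * x) := by rw [h3]
    _ = (v i * z) * v i * x := by group
    _ = z * (v i * v i) * x := by rw [M.z_comm]; group
    _ = z * x := by rw [M.v_sq, mul_one]

theorem exists_zx_swap (M : IsModel Q z v ρ) {x : C} {i j : Fin 5} (hij : i ≠ j) (h1 : (ρ x).σ i = j)
    (h2 : (ρ x).σ j = i) (h3 : (ρ x).s i = (ρ x).s j) : ∃ k, k * x * k⁻¹ = z * x := by
  have hi := M.conj x i
  have hj := M.conj x j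
  rw [h1] at hi
  rw [h2, ← h3] at hj
  set w := v i * v j with hw
  have hzi : z⁻¹ = z := inv_eq_of_mul_eq_one_left M.z_sq
  have hww : w * w = z := vv_sq M hij
  have h4 : x * w * x⁻¹ = z * w := by
    calc x * w * x⁻¹ = (x * v i * x⁻¹) * (x * v j * x⁻¹) := by rw [hw]; group
      _ = (zp z ((ρ x).s i) * v j) * (zp z ((ρ x).s i) * v i) := by rw [hi, hj]
      _ = zp z ((ρ x).s i) * (v j * zp z ((ρ x).s i)) * v i := by group
      _ = (zp z ((ρ x).s i) * zp z ((ρ x).s i)) * (v j * v i) := by rw [zp_comm' M]; group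
      _ = v j * v i := by rw [zp_sq M, one_mul]
      _ = z * (v i * v j) := M.v_anti j i hij.symm
  refine ⟨w, ?_⟩
  have h5 : x * w = z * w * x := mul_inv_eq_iff_eq_mul.1 h4
  have hwi : w⁻¹ = z * w := by
    rw [inv_eq_iff_mul_eq_one, ← mul_assoc, M.z_comm, mul_assoc, hww, M.z_sq]
  calc w * x * w⁻¹ = w * (x * (z * w)) := by rw [hwi]; group
    _ = w * ((x * z) * w) := by group
    _ = w * (z * (x * w)) := by rw [M.z_comm]; group
    _ = w * (z * (z * w * x)) := by rw [h5]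
    _ = w * ((z * z) * w * x) := by group
    _ = (w * w) * x := by rw [M.z_sq]; group
    _ = z * x := by rw [hww]

/-- an element satisfying the check -/
theorem real_of_chk (M : IsModel Q z v ρ) {τ : Equiv.Perm (Fin 5)} (hτ : Equiv.Perm.sign τ = 1) {x : C}
    (h : Chk τ (ρ x)) (hz : z ∈ Subgroup.zpowers x) : IsConj x x⁻¹ := by
  have hv : ∀ i, ∀ y : C, ρ y = vi i → y ≠ 1 ∧ y ≠ z ∧ y * y = 1 := by
    intro i y hy
    obtain ⟨a, ha⟩ := eq_of_rho_eq M (x := y) (y := v i) (by rw [hy, rho_v M i]; rfl)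
    rw [ha]
    exact ⟨v_ne_one M i a, zv_ne_z M a i, zv_sq M a i⟩
  rcases h with ⟨i, hi⟩ | ⟨i, hi⟩ | ⟨⟨r, hr, hinv⟩, h⟩
  · exfalso
    obtain ⟨h1, h2, h3⟩ := hv i (x * x) (by rw [map_mul, hi])
    exact notMem_zpowers M.z_ne M.z_sq h1 h2 h3 (Or.inl rfl) hz
  · exfalso
    obtain ⟨h1, h2, h3⟩ := hv i (x * x * x) (by rw [map_mul, map_mul, hi])
    exact notMem_zpowers M.z_ne M.z_sq h1 h2 h3 (Or.inr rfl) hz
  · obtain ⟨g, hg⟩ := (M.range ⟨τ, r⟩).2 ⟨hτ, hr⟩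
    rw [← hg] at hinv
    rcases h with h | h | ⟨i, h1, h2⟩ | ⟨i, j, hij, h1, h2, h3⟩
    · refine real_of_odd M hinv (n := 3) (by decide) ?_
      rw [pow_succ, pow_two, h]
    · refine real_of_odd M hinv (n := 5) (by decide) ?_
      rw [pow_succ, pow_succ, pow_succ, pow_two, h]
    · obtain ⟨k, hk⟩ := exists_zx_fix M h1 h2
      exact real_of_zx M hinv hk
    · obtain ⟨k, hk⟩ := exists_zx_swap M hij h1 h2 h3
      exact real_of_zx M hinv hk

/-- **Every element of `C` with `z` among its powers is real.** -/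
theorem real_C (M : IsModel Q z v ρ) (x : C) (hz : z ∈ Subgroup.zpowers x) : IsConj x x⁻¹ := by
  obtain ⟨hs, hsum⟩ := (M.range (ρ x)).1 ⟨x, rfl⟩
  rcases reps (ρ x).σ hs with h1 | ⟨τ, hτ, h1⟩
  · -- `x ∈ Q`
    have hxQ : x ∈ Q := (M.mem_Q x).2 h1
    rcases M.cover x hxQ with ⟨a, ha⟩ | ⟨a, i, ha⟩ | ⟨a, i, j, hij, ha⟩
    · have h2 : x * x = 1 := by rw [ha]; exact zp_sq M a
      rw [inv_eq_of_mul_eq_one_left h2]
    · have h2 : x * x = 1 := by rw [ha]; exact zv_sq M a i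
      rw [inv_eq_of_mul_eq_one_left h2]
    · have h3 : (ρ x).s i = 1 := by
        rw [ha, map_mul, map_mul, rho_zp M, one_mul, rho_v M, rho_v M, mul_s]
        show (if i = j then (0 : ZMod 2) else 1) + (if i = i then 0 else 1) = 1
        rw [if_neg hij.ne, if_pos rfl, add_zero]
      obtain ⟨k, hk⟩ := exists_zx_fix M (i := i) (by rw [h1]; rfl) h3
      refine real_of_zx M (g := 1) ?_ hk
      rw [map_one, inv_one, one_mul, mul_one]
      have h4 : ρ x * ρ x = 1 := by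
        apply SP.ext
        · rw [mul_σ, h1, one_mul]
          rfl
        · funext l
          rw [mul_s, h1, Equiv.Perm.one_apply, CharTwo.add_self_eq_zero]
          rfl
      exact eq_inv_of_mul_eq_one_left h4
  · -- conjugate `x`
    obtain ⟨g, hg⟩ := (M.range ⟨τ, fun _ => 0⟩).2 ⟨hτ, by simp⟩
    apply isConj_inv_of_conj (g := g)
    have hz' : z ∈ Subgroup.zpowers (g * x * g⁻¹) := by
      obtain ⟨k, hk⟩ := Subgroup.mem_zpowers_iff.1 hz
      refine Subgroup.mem_zpowers_iff.2 ⟨k, ?_⟩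
      rw [conj_zpow, hk, M.z_comm, mul_inv_cancel_right]
    have hsum' : ∑ i, (ρ (g * x * g⁻¹)).s i = 0 := ((M.range _).1 ⟨_, rfl⟩).2
    have hσ : ∀ σ', τ * (ρ x).σ = σ' * τ → (ρ (g * x * g⁻¹)).σ = σ' := by
      intro σ' h2
      rw [map_mul, map_mul, map_inv, mul_σ, mul_σ, inv_σ, hg]
      show τ * (ρ x).σ * τ⁻¹ = σ'
      rw [h2, mul_inv_cancel_right]
    have hfin : ∀ σ', τ * (ρ x).σ = σ' * τ → ρ (g * x * g⁻¹) = ⟨σ', (ρ (g * x * g⁻¹)).s⟩ := by
      intro σ' h2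
      rw [← hσ σ' h2]
    rcases h1 with h1 | h1 | h1 | h1
    · refine real_of_chk M (τ := 1) (Equiv.Perm.sign_one) ?_ hz'
      rw [hfin _ h1]
      exact chk0 _ hsum'
    · refine real_of_chk M (τ := d3.σ) d3_E.1 ?_ hz'
      rw [hfin _ h1]
      exact chk3 _ hsum'
    · refine real_of_chk M (τ := d5.σ) d5_E.1 ?_ hz'
      rw [hfin _ h1]
      exact chk5 _ hsum'
    · refine real_of_chk M (τ := d5.σ) d5_E.1 ?_ hz'
      rw [hfin _ h1]
      exact chk5' _ hsum'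

end Cfsg.Agent.H306.J2
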